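import Mathlib
import Groth.Prelude.Def_Fitting
import Groth.Agent.FittLib.BaseChange
import Groth.Agent.PullbackMod.OpenLocus
import Groth.Agent.PullbackMod.LimFree
import Groth.Agent.DCohLib.StalkRestrictFree
import Groth.Agent.FactorOne.Basic

/-!
# The Fitting ideal sheaves of a quasi-coherent module of finite type
-/

set_option autoImplicit false
set_option maxHeartbeats 800000
set_option linter.style.haveILetI false

universe u

open CategoryTheory CategoryTheory.Limits AlgebraicGeometry TopologicalSpace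
open scoped TensorProduct

namespace Groth.Agent.FittSheafLib

variable {X : Scheme.{u}} (F : X.Modules) [Coh.IsQCoh F]

theorem fitt_map_of_isBaseChange {R S : Type u} [CommRing R] [CommRing S] [Algebra R S] {M N : Type u}
    [AddCommGroup M] [Module R M] [Module.Finite R M] [AddCommGroup N] [Module R N] [Module S N]
    [IsScalarTower R S N] (r : M →ₗ[R] N) (h : IsBaseChange S r) (k : ℕ) :
    (Fitt.ideal R M k).map (algebraMap R S) = Fitt.ideal S N k := by
  rw [← FittLib.ideal_baseChange, FittLib.ideal_eq_of_equiv h.equiv]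

variable (hft : CohB1.IsFT F)

include hft in
theorem map_basicOpen (k : ℕ) (U : X.affineOpens) (f : Γ(X, U.1)) :
    (Fitt.ideal Γ(X, U.1) Γ(F, U.1) k).map (X.presheaf.map (homOfLE (X.basicOpen_le f)).op).hom =
      Fitt.ideal Γ(X, X.basicOpen f) Γ(F, X.basicOpen f) k := by
  letI : Algebra Γ(X, U.1) Γ(X, X.basicOpen f) :=
    (X.presheaf.map (homOfLE (X.basicOpen_le f)).op).hom.toAlgebra
  haveI := U.2.isLocalization_basicOpen f
  letI := Module.compHom Γ(F, X.basicOpen f) (X.presheaf.map (homOfLE (X.basicOpen_le f)).op).hom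
  haveI : IsScalarTower Γ(X, U.1) Γ(X, X.basicOpen f) Γ(F, X.basicOpen f) :=
    .of_algebraMap_smul fun _ _ => rfl
  haveI := QCohLib.finite_sections F hft U.2
  obtain ⟨r, hr⟩ := QCohLib.exists_isLocalizedModule_res F U.2 f
  exact fitt_map_of_isBaseChange r
    ((isLocalizedModule_iff_isBaseChange (Submonoid.powers f) Γ(X, X.basicOpen f) r).1 hr) k

include hft in
theorem sheafIdeal_ideal (k : ℕ) (U : X.affineOpens) :
    (Fitt.sheafIdeal F k).ideal U = Fitt.ideal Γ(X, U.1) Γ(F, U.1) k := by
  let J : X.IdealSheafData :=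
    { ideal := fun U => Fitt.ideal Γ(X, U.1) Γ(F, U.1) k
      map_ideal_basicOpen := fun U f => map_basicOpen F hft k U f }
  exact congrArg (fun K => Scheme.IdealSheafData.ideal K U) (Scheme.IdealSheafData.ofIdeals_ideal J)

include hft in
theorem mem_support_iff (k : ℕ) {W : X.Opens} (hW : IsAffineOpen W) (x : X) (hx : x ∈ W) :
    x ∈ (Fitt.sheafIdeal F k).support ↔
      Fitt.ideal Γ(X, W) Γ(F, W) k ≤ (hW.primeIdealOf ⟨x, hx⟩).asIdeal := by
  rw [Scheme.IdealSheafData.mem_support_iff_of_mem (U := ⟨W, hW⟩) hx, sheafIdeal_ideal F hft k ⟨W, hW⟩,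
    Scheme.mem_zeroLocus_iff]
  refine ⟨fun h f hf => by_contra fun hfp => h f hf ?_, fun h f hf hxf => ?_⟩
  · exact (PullbackMod.primeCompl_primeIdealOf hW x hx f).mp hfp
  · exact (PullbackMod.primeCompl_primeIdealOf hW x hx f).mpr hxf (h hf)

include hft in
theorem stalk_fitt (k : ℕ) {W : X.Opens} (hW : IsAffineOpen W) (x : X) (hx : x ∈ W) :
    (Fitt.ideal Γ(X, W) Γ(F, W) k).map (X.presheaf.germ W x hx).hom =
      Fitt.ideal (X.presheaf.stalk x) (F.presheaf.stalk x) k := by
  letI := Module.compHom (F.presheaf.stalk x) (X.presheaf.germ W x hx).hom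
  haveI := FlatLocus.isLocalizedModule_germL F hW x hx
  letI : Algebra Γ(X, W) (X.presheaf.stalk x) := TopCat.Presheaf.algebra_section_stalk X.presheaf ⟨x, hx⟩
  haveI := hW.isLocalization_stalk ⟨x, hx⟩
  haveI : IsScalarTower Γ(X, W) (X.presheaf.stalk x) (F.presheaf.stalk x) := .of_algebraMap_smul fun _ _ => rfl
  haveI := QCohLib.finite_sections F hft hW
  exact fitt_map_of_isBaseChange (FlatLocus.germL F W x hx)
    (IsLocalizedModule.isBaseChange (hW.primeIdealOf ⟨x, hx⟩).asIdeal.primeCompl (X.presheaf.stalk x) _) k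

include hft in
theorem notMem_support_iff (k : ℕ) (x : X) :
    x ∉ (Fitt.sheafIdeal F k).support ↔
      ∃ g : Fin k → F.presheaf.stalk x, Submodule.span (X.presheaf.stalk x) (Set.range g) = ⊤ := by
  obtain ⟨W, hW, hx, -⟩ := exists_isAffineOpen_mem_and_subset (U := (⊤ : X.Opens)) (x := x) trivial
  haveI := PullbackMod.finite_stalk_of_isFT hft x
  rw [mem_support_iff F hft k hW x hx]
  constructor
  · intro h
    obtain ⟨f, hf, hfp⟩ := SetLike.not_le_iff_exists.1 h
    refine FittLib.exists_span_of_ideal_eq_top ?_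
    rw [← stalk_fitt F hft k hW x hx]
    exact Ideal.eq_top_of_isUnit_mem _ (Ideal.mem_map_of_mem _ hf)
      ((X.mem_basicOpen f x hx).1 ((PullbackMod.primeCompl_primeIdealOf hW x hx f).mp hfp))
  · rintro ⟨g, hg⟩ hle
    have h1 := FittLib.ideal_eq_top g hg le_rfl
    rw [← stalk_fitt F hft k hW x hx] at h1
    refine (IsLocalRing.maximalIdeal.isMaximal (X.presheaf.stalk x)).ne_top (top_le_iff.1 (h1 ▸ ?_))
    rw [Ideal.map_le_iff_le_comap]
    intro a ha hu
    exact (PullbackMod.primeCompl_primeIdealOf hW x hx a).mpr ((X.mem_basicOpen a x hx).2 hu) (hle ha)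

include hft in
/-- Generators of the stalk generate the sections over a basic open neighbourhood. -/
theorem exists_span_nhd (k : ℕ) (x : X) (g : Fin k → F.presheaf.stalk x)
    (hg : Submodule.span (X.presheaf.stalk x) (Set.range g) = ⊤) :
    ∃ (U : X.Opens) (_ : IsAffineOpen U) (_ : x ∈ U) (s : Fin k → Γ(F, U)),
      Submodule.span Γ(X, U) (Set.range s) = ⊤ := by
  classical
  obtain ⟨W, hW, hx, -⟩ := exists_isAffineOpen_mem_and_subset (U := (⊤ : X.Opens)) (x := x) trivial
  letI := Module.compHom (F.presheaf.stalk x) (X.presheaf.germ W x hx).hom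
  haveI := FlatLocus.isLocalizedModule_germL F hW x hx
  letI : Algebra Γ(X, W) (X.presheaf.stalk x) := TopCat.Presheaf.algebra_section_stalk X.presheaf ⟨x, hx⟩
  haveI := hW.isLocalization_stalk ⟨x, hx⟩
  haveI : IsScalarTower Γ(X, W) (X.presheaf.stalk x) (F.presheaf.stalk x) := .of_algebraMap_smul fun _ _ => rfl
  haveI := QCohLib.finite_sections F hft hW
  let p := (hW.primeIdealOf ⟨x, hx⟩).asIdeal
  choose md hmd using fun j => IsLocalizedModule.surj p.primeCompl (FlatLocus.germL F W x hx) (g j)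
  let s₀ : Fin k → Γ(F, W) := fun j => (md j).1
  let P := Submodule.span Γ(X, W) (Set.range s₀)
  obtain ⟨gen, hgen⟩ := (QCohLib.finite_sections F hft hW).fg_top
  have hkill : ∀ q : Γ(F, W), ∃ t : p.primeCompl, (t : Γ(X, W)) • q ∈ P := by
    intro q
    obtain ⟨c, hc⟩ := (Submodule.mem_span_range_iff_exists_fun (X.presheaf.stalk x)).1
      (hg ▸ Submodule.mem_top : FlatLocus.germL F W x hx q ∈ _)
    obtain ⟨b, hb⟩ := IsLocalization.exist_integer_multiples p.primeCompl (Finset.univ : Finset (Fin k))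
      (fun j => c j)
    choose a ha using fun j => hb j (Finset.mem_univ j)
    have h1 : FlatLocus.germL F W x hx ((b.1 * ∏ j, (md j).2.1) • q) =
        FlatLocus.germL F W x hx (∑ j, (a j * ∏ l ∈ Finset.univ.erase j, (md l).2.1) • s₀ j) := by
      rw [map_smul, map_sum, ← hc, Finset.smul_sum]
      refine Finset.sum_congr rfl fun j _ => ?_
      rw [map_smul, show FlatLocus.germL F W x hx (s₀ j) = (md j).2.1 • g j from (hmd j).symm, smul_smul,
        mul_assoc, Finset.prod_erase_mul _ _ (Finset.mem_univ j), mul_comm b.1, mul_comm (a j), mul_smul, mul_smul]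
      congr 1
      rw [← algebraMap_smul (X.presheaf.stalk x) (a j) (g j), ha j, ← algebraMap_smul (X.presheaf.stalk x) b.1,
        smul_smul, Algebra.smul_def]
    obtain ⟨t, ht⟩ := IsLocalizedModule.exists_of_eq (S := p.primeCompl) h1
    refine ⟨t * (b * ∏ j, (md j).2), ?_⟩
    rw [Submonoid.coe_mul, mul_smul, Submonoid.coe_mul, Submonoid.coe_finset_prod]
    refine (show (t : Γ(X, W)) • _ ∈ P from ?_)
    rw [show (t : Γ(X, W)) • ((b.1 * ∏ j, (md j).2.1) • q) = _ from ht]
    exact P.smul_mem _ (P.sum_mem fun j _ => P.smul_mem _ (Submodule.subset_span ⟨j, rfl⟩))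
  choose t ht using hkill
  let f : Γ(X, W) := ∏ q ∈ gen, (t q : Γ(X, W))
  have hf : x ∈ X.basicOpen f :=
    (PullbackMod.primeCompl_primeIdealOf hW x hx f).mp (prod_mem fun q _ => (t q).2)
  have hfP : ∀ q : Γ(F, W), f • q ∈ P := by
    intro q
    have hq : q ∈ Submodule.span Γ(X, W) (gen : Set Γ(F, W)) := by rw [hgen]; trivial
    induction hq using Submodule.span_induction with
    | mem q hq =>
      show (∏ i ∈ gen, (t i : Γ(X, W))) • q ∈ P
      rw [← Finset.prod_erase_mul _ _ hq, mul_smul]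
      exact P.smul_mem _ (ht q)
    | zero => rw [smul_zero]; exact zero_mem _
    | add a b _ _ ha hb => rw [smul_add]; exact add_mem ha hb
    | smul r a _ ha => rw [smul_comm]; exact P.smul_mem r ha
  refine ⟨X.basicOpen f, hW.basicOpen f, hf,
    fun j => F.presheaf.map (homOfLE (X.basicOpen_le f)).op (s₀ j), eq_top_iff.2 fun y _ => ?_⟩
  letI : Algebra Γ(X, W) Γ(X, X.basicOpen f) := (X.presheaf.map (homOfLE (X.basicOpen_le f)).op).hom.toAlgebra
  haveI := hW.isLocalization_basicOpen f
  let P' := Submodule.span Γ(X, X.basicOpen f)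
    (Set.range fun j => F.presheaf.map (homOfLE (X.basicOpen_le f)).op (s₀ j))
  have hP : ∀ q ∈ P, F.presheaf.map (homOfLE (X.basicOpen_le f)).op q ∈ P' := by
    intro q hq
    induction hq using Submodule.span_induction with
    | mem q hq => obtain ⟨j, rfl⟩ := hq; exact Submodule.subset_span ⟨j, rfl⟩
    | zero => rw [map_zero]; exact zero_mem _
    | add a b _ _ ha hb => rw [map_add]; exact add_mem ha hb
    | smul r a _ ha => rw [Scheme.Modules.map_smul]; exact P'.smul_mem _ ha
  obtain ⟨n, q, hq⟩ := (QCohLib.locAt F hW).extend f y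
  replace hq : X.presheaf.map (homOfLE (X.basicOpen_le f)).op (f ^ n) • y =
      F.presheaf.map (homOfLE (X.basicOpen_le f)).op q := by
    rw [hq, CohBase.sc_apply]
  have hu : IsUnit (X.presheaf.map (homOfLE (X.basicOpen_le f)).op (f ^ (n + 1))) := by
    rw [map_pow]
    exact (X.toLocallyRingedSpace.toRingedSpace.isUnit_res_basicOpen f).pow _
  refine (P'.smul_mem_iff_of_isUnit hu).1 ?_
  rw [pow_succ', map_mul, mul_smul, hq, ← Scheme.Modules.map_smul]
  exact hP _ (hfP q)

end Groth.Agent.FittSheafLib
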