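import Mathlib
import Groth.Agent.FittSheafLib.Basic
import Groth.Agent.OmegaAffLib.Spec
import Groth.Agent.OmegaAffLib.Stalk

/-!
# Fitting ideals of the sheaf of differentials
-/

set_option autoImplicit false
set_option linter.style.haveILetI false

universe u

open CategoryTheory CategoryTheory.Limits AlgebraicGeometry TopologicalSpace

namespace Groth.Agent.FittSheafLib

variable {X Y : Scheme.{u}} (f : X ⟶ Y) [QuasiSeparated f] [LocallyOfFiniteType f]

theorem finite_omega_sections {V : Y.Opens} {U : X.Opens} (hV : IsAffineOpen V) (hU : IsAffineOpen U)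
    (h : U ≤ f ⁻¹ᵁ V) : Module.Finite Γ(X, U) Γ(Omega.sheaf f, U) := by
  letI := (f.appLE V U h).hom.toAlgebra
  haveI : Algebra.FiniteType Γ(Y, V) Γ(X, U) := f.finiteType_appLE hV hU h
  haveI : Module.Finite Γ(X, U) Ω[Γ(X, U)⁄Γ(Y, V)] := inferInstance
  haveI : Module.Finite Γ(X, U) ↑(CommRingCat.KaehlerDifferential (f.appLE V U h)) := this
  exact Module.Finite.of_surjective (OmAff.toSect f V U h).hom
    (OmegaAffLib.bijective_of_D f hV hU h _ fun b => OmAff.toSect_d f V U h b).2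

theorem isFT_omega : CohB1.IsFT (Omega.sheaf f) := by
  haveI := OmegaAffLib.isQCoh_omega f
  obtain ⟨W, W', hW, hW', hcov, e⟩ := PullbackMod.exists_affine_cover_of f
  exact QCohLib.isFiniteType_of_finite _ W' hW' hcov fun x => finite_omega_sections f (hW x) (hW' x) (e x)

theorem omega_ideal {V : Y.Opens} {U : X.Opens} (hV : IsAffineOpen V) (hU : IsAffineOpen U)
    (h : U ≤ f ⁻¹ᵁ V) (k : ℕ) :
    letI := (f.appLE V U h).hom.toAlgebra
    (Fitt.sheafIdeal (Omega.sheaf f) k).ideal ⟨U, hU⟩ = Fitt.ideal Γ(X, U) Ω[Γ(X, U)⁄Γ(Y, V)] k := by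
  letI := (f.appLE V U h).hom.toAlgebra
  haveI := OmegaAffLib.isQCoh_omega f
  haveI : Algebra.FiniteType Γ(Y, V) Γ(X, U) := f.finiteType_appLE hV hU h
  rw [sheafIdeal_ideal _ (isFT_omega f) k ⟨U, hU⟩]
  haveI : Module.Finite Γ(X, U) Ω[Γ(X, U)⁄Γ(Y, V)] := inferInstance
  haveI : Module.Finite Γ(X, U) ↑(CommRingCat.KaehlerDifferential (f.appLE V U h)) := this
  exact (FittLib.ideal_eq_of_equiv (LinearEquiv.ofBijective (OmAff.toSect f V U h).hom
    (OmegaAffLib.bijective_of_D f hV hU h _ fun b => OmAff.toSect_d f V U h b)) k).symm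

theorem notMem_support_omega_zero_iff (x : X) :
    x ∉ (Fitt.sheafIdeal (Omega.sheaf f) 0).support ↔ (f.stalkMap x).hom.FormallyUnramified := by
  haveI := OmegaAffLib.isQCoh_omega f
  rw [← OmegaAffLib.subsingleton_stalk_iff f x, notMem_support_iff _ (isFT_omega f) 0 x]
  refine ⟨?_, fun h => ⟨fun i => i.elim0, Subsingleton.elim _ _⟩⟩
  rintro ⟨g, hg⟩
  refine ⟨fun a b => ?_⟩
  have h0 : ∀ z : (Omega.sheaf f).presheaf.stalk x, z = 0 := fun z => by
    have : z ∈ Submodule.span (X.presheaf.stalk x) (Set.range g) := hg ▸ Submodule.mem_top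
    rwa [Set.range_eq_empty, Submodule.span_empty, Submodule.mem_bot] at this
  rw [h0 a, h0 b]

end Groth.Agent.FittSheafLib
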