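import Mathlib
import Groth.Agent.FittSheafLib.Basic
import Groth.Agent.S0938
import Groth.Agent.DCohLib.PCTop

/-!
# Maps from free modules given by spanning sections
-/

set_option autoImplicit false
set_option maxHeartbeats 800000
set_option linter.style.haveILetI false

universe u

open CategoryTheory CategoryTheory.Limits AlgebraicGeometry TopologicalSpace
open Groth.Agent.PullbackMod

namespace Groth.Agent.FittSheafLib

variable {Y : Scheme.{u}} (N : Y.Modules) [Coh.IsQCoh N] [IsAffine Y] {k : ℕ}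

/-- On an affine scheme spanning global sections give an epimorphism, an isomorphism if independent. -/
theorem exists_free_epi (s : Fin k → Γ(N, ⊤)) (hs : Submodule.span Γ(Y, ⊤) (Set.range s) = ⊤) :
    ∃ φ : FlatMod.freeMod Y k ⟶ N, Epi φ ∧
      ((∀ c : Fin k → Γ(Y, ⊤), ∑ j, c j • s j = 0 → c = 0) → IsIso φ) := by
  classical
  let φ : FlatMod.freeMod Y k ⟶ N := Sigma.desc fun j => FactorOne.ofSection N (s j)
  have he : ∀ j, φ.app ⊤ (S0938.e Y k j) = s j := fun j => by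
    show S0938.secOf (S0938.incl Y k j ≫ φ) = _
    rw [S0938.incl, Sigma.ι_desc, S0938.secOf_ofSection]
  haveI : Coh.IsQCoh (FlatMod.freeMod Y k) :=
    (PullbackMod.isQCoh_and_isFP_of_isFinLocFree _ (DCohLib.isFinLocFree_freeMod (Y := Y) k)).1
  have hW : IsAffineOpen (⊤ : Y.Opens) := isAffineOpen_top Y
  have hone : ∀ x : Y, x ∈ Y.basicOpen (1 : Γ(Y, ⊤)) := fun x => by rw [Y.basicOpen_of_isUnit isUnit_one]; trivial
  have hsurj : ∀ x, Function.Surjective (stalkLin φ x) := fun x =>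
    (stalk_criteria φ hW x trivial).2.1.mpr fun q => by
      obtain ⟨c, hc⟩ := (Submodule.mem_span_range_iff_exists_fun Γ(Y, ⊤)).1 (hs ▸ Submodule.mem_top : q ∈ _)
      refine ⟨1, hone x, ∑ j, c j • S0938.e Y k j, ?_⟩
      rw [one_smul, map_sum, ← hc]
      exact Finset.sum_congr rfl fun j _ => (map_smul _ _ _).trans (congrArg (c j • ·) (he j))
  refine ⟨φ, (epi_iff_stalk φ).2 hsurj, fun hind => (isIso_iff_stalk φ).2 fun x => ⟨?_, hsurj x⟩⟩
  refine (stalk_criteria φ hW x trivial).2.2.mpr fun m hm => ⟨1, hone x, ?_⟩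
  rw [one_smul]
  obtain ⟨c, rfl⟩ := (S0938.freeEquiv Y k).symm.surjective m
  have hc : c = 0 := hind c (by
    refine Eq.trans ?_ hm
    show _ = FlatLocus.appL φ ⊤ (∑ j, c j • S0938.e Y k j)
    rw [map_sum]
    exact Finset.sum_congr rfl fun j _ => ((map_smul (FlatLocus.appL φ ⊤) _ _).trans (congrArg (c j • ·) (he j))).symm)
  rw [hc, map_zero]

omit [IsAffine Y] in
/-- Spanning sections over an affine open give a map of modules over it. -/
theorem exists_free_epi_restrict {U : Y.Opens} (hU : IsAffineOpen U) (s : Fin k → Γ(N, U))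
    (hs : Submodule.span Γ(Y, U) (Set.range s) = ⊤) :
    ∃ φ : FlatMod.freeMod U.toScheme k ⟶ N.restrict U.ι, Epi φ ∧
      ((∀ c : Fin k → Γ(Y, U), ∑ j, c j • s j = 0 → c = 0) → IsIso φ) := by
  haveI : IsAffine U.toScheme := hU
  haveI : Coh.IsQCoh (N.restrict U.ι) := inferInstance
  obtain ⟨s', hs', hind⟩ : ∃ s' : Fin k → Γ(N, U.ι ''ᵁ ⊤),
      Submodule.span Γ(Y, U.ι ''ᵁ ⊤) (Set.range s') = ⊤ ∧
      ((∀ c : Fin k → Γ(Y, U), ∑ j, c j • s j = 0 → c = 0) →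
        ∀ c : Fin k → Γ(Y, U.ι ''ᵁ ⊤), ∑ j, c j • s' j = 0 → c = 0) := by
    have key : ∀ V : Y.Opens, V = U → ∃ s' : Fin k → Γ(N, V),
        Submodule.span Γ(Y, V) (Set.range s') = ⊤ ∧
        ((∀ c : Fin k → Γ(Y, U), ∑ j, c j • s j = 0 → c = 0) →
          ∀ c : Fin k → Γ(Y, V), ∑ j, c j • s' j = 0 → c = 0) := by
      rintro V rfl
      exact ⟨s, hs, id⟩
    exact key _ U.ι_image_top
  let toR : Γ(N, U.ι ''ᵁ ⊤) → Γ(N.restrict U.ι, ⊤) := fun m => m
  have hsmul : ∀ (r : Γ(U.toScheme, ⊤)) (m : Γ(N, U.ι ''ᵁ ⊤)),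
      r • toR m = toR ((U.ι.appIso ⊤).inv r • m) := fun _ _ => rfl
  have hinv : ∀ r : Γ(Y, U.ι ''ᵁ ⊤), (U.ι.appIso ⊤).inv ((U.ι.appIso ⊤).hom r) = r := fun r =>
    ConcreteCategory.congr_hom (U.ι.appIso ⊤).hom_inv_id r
  obtain ⟨φ, hφ, hφ'⟩ := exists_free_epi (Y := U.toScheme) (N.restrict U.ι) (k := k) (fun j => toR (s' j)) (by
    refine eq_top_iff.2 fun m _ => ?_
    obtain ⟨m, rfl⟩ : ∃ m₀, toR m₀ = m := ⟨m, rfl⟩
    obtain ⟨c, hc⟩ := (Submodule.mem_span_range_iff_exists_fun Γ(Y, U.ι ''ᵁ ⊤)).1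
      (hs' ▸ Submodule.mem_top : m ∈ _)
    refine (Submodule.mem_span_range_iff_exists_fun Γ(U.toScheme, ⊤)).2 ⟨fun j => (U.ι.appIso ⊤).hom (c j), ?_⟩
    let toRh : Γ(N, U.ι ''ᵁ ⊤) →+ Γ(N.restrict U.ι, ⊤) :=
      { toFun := toR, map_zero' := rfl, map_add' := fun _ _ => rfl }
    refine Eq.trans ?_ (congrArg toRh hc)
    rw [map_sum]
    refine Finset.sum_congr rfl fun j _ => ?_
    rw [hsmul, hinv]
    rfl)
  refine ⟨φ, hφ, fun h => hφ' fun c hc => ?_⟩
  have h1 := hind h (fun j => (U.ι.appIso ⊤).inv (c j)) hc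
  funext j
  have h2 := congrArg (U.ι.appIso ⊤).hom (congrFun h1 j)
  rw [Pi.zero_apply, map_zero] at h2
  rw [Pi.zero_apply, ← h2]
  exact (ConcreteCategory.congr_hom (U.ι.appIso ⊤).inv_hom_id (c j)).symm

end Groth.Agent.FittSheafLib
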